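-- Stabilizer chain for MWE7C; generated, checked by the kernel.
import Cfsg.Agent.Lib.Compute.TC.MWE7.Final
import Cfsg.Agent.Lib.Compute.TCChain
set_option autoImplicit false
set_option maxRecDepth 1000000

open Cfsg.Agent.Lib.Compute.ToddCoxeterCore Cfsg.Agent.Lib.Compute.ToddCoxeterPresented Cfsg.Agent.Lib.Compute.TCFast Cfsg.Agent.Lib.Compute.TCChain

namespace Cfsg.Agent.Lib.Compute.TC.MWE7C

/-- the first level of the chain -/
def next0 : List PE := [.mul (.inv (.mul (.lt (nat_lit 6)) (.mul (.lt (nat_lit 1)) (.mul (.lt (nat_lit 2)) (.mul (.lt (nat_lit 3)) (.mul (.lt (nat_lit 4)) (.lt (nat_lit 5)))))))) (.mul (.lt (nat_lit 4)) (.mul (.lt (nat_lit 6)) (.mul (.lt (nat_lit 1)) (.mul (.lt (nat_lit 2)) (.mul (.lt (nat_lit 3)) (.mul (.lt (nat_lit 4)) (.lt (nat_lit 5)))))))), .mul (.inv (.mul (.lt (nat_lit 4)) (.mul (.lt (nat_lit 3)) (.mul (.lt (nat_lit 2)) (.mul (.lt (nat_lit 6)) (.mul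 (.lt (nat_lit 1)) (.mul (.lt (nat_lit 2)) (.mul (.lt (nat_lit 3)) (.mul (.lt (nat_lit 0)) (.mul (.lt (nat_lit 1)) (.mul (.lt (nat_lit 2)) (.mul (.lt (nat_lit 6)) (.mul (.lt (nat_lit 4)) (.mul (.lt (nat_lit 5)) (.mul (.lt (nat_lit 3)) (.mul (.lt (nat_lit 4)) (.mul (.lt (nat_lit 2)) (.mul (.lt (nat_lit 3)) (.mul (.lt (nat_lit 1)) (.mul (.lt (nat_lit 2)) (.mul (.lt (nat_lit 6)) (.mul (.lt (nat_lit 0)) (.mul (.lt (nat_lit 1)) (.mul (.lt (nat_lit 2)) (.mul (.lt (nat_lit 3)) (.mul (.lt (nat_lit 4)) (.lt (nat_lit 5)))))))))))))))))))))))))))) (.mul (.lt (nat_lit 6)) (.mul (.lt (nat_lit 4)) (.mul (.lt (nat_lit 3)) (.mul (.lt (nat_lit 2)) (.mul (.lt (nat_lit 6)) (.mul (.lt (nat_lit 1)) (.mul (.lt (nat_lit 2)) (.mul (.lt (nat_lit 3)) (.mul (.lt (nat_lit 0)) (.mul (.lt (nat_lit 1)) (.mul (.lt (nat_lit 2)) (.mul (.lt (nat_lit 6)) (.mul (.lt (nat_lit 4)) (.mul (.lt (nat_lit 5)) (.mul (.lt (nat_lit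 3)) (.mul (.lt (nat_lit 4)) (.mul (.lt (nat_lit 2)) (.mul (.lt (nat_lit 3)) (.mul (.lt (nat_lit 1)) (.mul (.lt (nat_lit 2)) (.mul (.lt (nat_lit 6)) (.mul (.lt (nat_lit 0)) (.mul (.lt (nat_lit 1)) (.mul (.lt (nat_lit 2)) (.mul (.lt (nat_lit 3)) (.mul (.lt (nat_lit 4)) (.lt (nat_lit 5)))))))))))))))))))))))))))), .mul (.inv (.mul (.lt (nat_lit 6)) (.mul (.lt (nat_lit 2)) (.mul (.lt (nat_lit 3)) (.mul (.lt (nat_lit 4)) (.lt (nat_lit 5))))))) (.mul (.lt (nat_lit 3)) (.mul (.lt (nat_lit 6)) (.mul (.lt (nat_lit 2)) (.mul (.lt (nat_lit 3)) (.mul (.lt (nat_lit 4)) (.lt (nat_lit 5))))))), .mul (.inv (.mul (.lt (nat_lit 1)) (.mul (.lt (nat_lit 2)) (.mul (.lt (nat_lit 3)) (.mul (.lt (nat_lit 0)) (.mul (.lt (nat_lit 1)) (.mul (.lt (nat_lit 2)) (.mul (.lt (nat_lit 6)) (.mul (.lt (nat_lit 4)) (.mul (.lt (nat_lit 5)) (.mul (.lt (nat_lit 3)) (.mul (.lt (nat_lit 4)) (.mul (.lt (nat_lit 2)) (.mul (.lt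 (nat_lit 3)) (.mul (.lt (nat_lit 1)) (.mul (.lt (nat_lit 2)) (.mul (.lt (nat_lit 6)) (.mul (.lt (nat_lit 0)) (.mul (.lt (nat_lit 1)) (.mul (.lt (nat_lit 2)) (.mul (.lt (nat_lit 3)) (.mul (.lt (nat_lit 4)) (.lt (nat_lit 5)))))))))))))))))))))))) (.mul (.lt (nat_lit 0)) (.mul (.lt (nat_lit 1)) (.mul (.lt (nat_lit 2)) (.mul (.lt (nat_lit 3)) (.mul (.lt (nat_lit 0)) (.mul (.lt (nat_lit 1)) (.mul (.lt (nat_lit 2)) (.mul (.lt (nat_lit 6)) (.mul (.lt (nat_lit 4)) (.mul (.lt (nat_lit 5)) (.mul (.lt (nat_lit 3)) (.mul (.lt (nat_lit 4)) (.mul (.lt (nat_lit 2)) (.mul (.lt (nat_lit 3)) (.mul (.lt (nat_lit 1)) (.mul (.lt (nat_lit 2)) (.mul (.lt (nat_lit 6)) (.mul (.lt (nat_lit 0)) (.mul (.lt (nat_lit 1)) (.mul (.lt (nat_lit 2)) (.mul (.lt (nat_lit 3)) (.mul (.lt (nat_lit 4)) (.lt (nat_lit 5)))))))))))))))))))))))), .mul (.inv (.lt (nat_lit 5))) (.mul (.lt (nat_lit 0)) (.lt (nat_lit 5))), .mul (.inv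 (.mul (.lt (nat_lit 3)) (.mul (.lt (nat_lit 2)) (.mul (.lt (nat_lit 6)) (.mul (.lt (nat_lit 4)) (.mul (.lt (nat_lit 5)) (.mul (.lt (nat_lit 3)) (.mul (.lt (nat_lit 4)) (.mul (.lt (nat_lit 2)) (.mul (.lt (nat_lit 3)) (.mul (.lt (nat_lit 1)) (.mul (.lt (nat_lit 2)) (.mul (.lt (nat_lit 6)) (.mul (.lt (nat_lit 0)) (.mul (.lt (nat_lit 1)) (.mul (.lt (nat_lit 2)) (.mul (.lt (nat_lit 3)) (.mul (.lt (nat_lit 4)) (.lt (nat_lit 5)))))))))))))))))))) (.mul (.lt (nat_lit 4)) (.mul (.lt (nat_lit 3)) (.mul (.lt (nat_lit 2)) (.mul (.lt (nat_lit 6)) (.mul (.lt (nat_lit 4)) (.mul (.lt (nat_lit 5)) (.mul (.lt (nat_lit 3)) (.mul (.lt (nat_lit 4)) (.mul (.lt (nat_lit 2)) (.mul (.lt (nat_lit 3)) (.mul (.lt (nat_lit 1)) (.mul (.lt (nat_lit 2)) (.mul (.lt (nat_lit 6)) (.mul (.lt (nat_lit 0)) (.mul (.lt (nat_lit 1)) (.mul (.lt (nat_lit 2)) (.mul (.lt (nat_lit 3)) (.mul (.lt (nat_lit 4)) (.lt (nat_lit 5))))))))))))))))))))]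

/-- the orbit table of level 0 -/
noncomputable def tb0 : TT := .leaf (nat_lit 0x10040000190000270f050000180000240e020000170000210d0100001500001d0c0100001300001b0c000000130000190b010000110000170b020000120000160a050000100000140a0200000f000013090400000e000011090500000d000010080300000b00000f080400000b00000e080500000a00000d070000000900000c070400000900000b060200000700000a060400000700000905050000050000080504000004000007040100000300000604050000030000050302000002000004020000000100000301030000000000020000000000000001)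
/-- level 0 -/
noncomputable def lv0 : Lvl where
  b := nat_lit 1
  n := nat_lit 27
  t := fun k => TT.fld tb0 (nat_lit 64) (nat_lit 255) (nat_lit 18446744073709551615) k
  next := [.mul (.inv (.mul (.lt (nat_lit 4)) (.mul (.lt (nat_lit 5)) (.mul (.lt (nat_lit 1)) (.mul (.lt (nat_lit 2)) (.mul (.lt (nat_lit 0)) (.lt (nat_lit 3)))))))) (.mul (.lt (nat_lit 0)) (.mul (.lt (nat_lit 4)) (.mul (.lt (nat_lit 5)) (.mul (.lt (nat_lit 1)) (.mul (.lt (nat_lit 2)) (.mul (.lt (nat_lit 0)) (.lt (nat_lit 3)))))))), .mul (.inv (.mul (.lt (nat_lit 1)) (.mul (.lt (nat_lit 2)) (.mul (.lt (nat_lit 5)) (.mul (.lt (nat_lit 4)) (.mul (.lt (nat_lit 0)) (.mul (.lt (nat_lit 2)) (.mul (.lt (nat_lit 5)) (.mul (.lt (nat_lit 1)) (.mul (.lt (nat_lit 2)) (.mul (.lt (nat_lit 0)) (.lt (nat_lit 3))))))))))))) (.mul (.lt (nat_lit 0)) (.mul (.lt (nat_lit 1)) (.mul (.lt (nat_lit 2)) (.mul (.lt (nat_lit 5)) (.mul (.lt (nat_lit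 4)) (.mul (.lt (nat_lit 0)) (.mul (.lt (nat_lit 2)) (.mul (.lt (nat_lit 5)) (.mul (.lt (nat_lit 1)) (.mul (.lt (nat_lit 2)) (.mul (.lt (nat_lit 0)) (.lt (nat_lit 3))))))))))))), .mul (.inv (.mul (.lt (nat_lit 0)) (.mul (.lt (nat_lit 2)) (.mul (.lt (nat_lit 5)) (.mul (.lt (nat_lit 1)) (.mul (.lt (nat_lit 2)) (.mul (.lt (nat_lit 0)) (.lt (nat_lit 3))))))))) (.mul (.lt (nat_lit 5)) (.mul (.lt (nat_lit 0)) (.mul (.lt (nat_lit 2)) (.mul (.lt (nat_lit 5)) (.mul (.lt (nat_lit 1)) (.mul (.lt (nat_lit 2)) (.mul (.lt (nat_lit 0)) (.lt (nat_lit 3))))))))), .mul (.inv (.mul (.lt (nat_lit 5)) (.mul (.lt (nat_lit 2)) (.mul (.lt (nat_lit 0)) (.lt (nat_lit 3)))))) (.mul (.lt (nat_lit 2)) (.mul (.lt (nat_lit 5)) (.mul (.lt (nat_lit 2)) (.mul (.lt (nat_lit 0)) (.lt (nat_lit 3)))))), .mul (.inv (.mul (.lt (nat_lit 0)) (.lt (nat_lit 3)))) (.mul (.lt (nat_lit 3)) (.mul (.lt (nat_lit 0)) (.lt (nat_lit 3))))]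

/-- the orbit table of level 1 -/
noncomputable def tb1 : TT := .leaf (nat_lit 0x30200000e000017020000000d000013010300000c000010000000000000000e020400000d00000d010100000c00000c010400000c00000b020400000a00000a02000000090000090300000008000008030200000700000704030000060000060402000006000005050300000300000406000000020000030704000001000002)
/-- level 1 -/
noncomputable def lv1 : Lvl where
  b := nat_lit 14
  n := nat_lit 16
  t := fun k => TT.fld tb1 (nat_lit 64) (nat_lit 255) (nat_lit 18446744073709551615) k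
  next := [.mul (.inv (.mul (.lt (nat_lit 3)) (.mul (.lt (nat_lit 2)) (.mul (.lt (nat_lit 0)) (.mul (.lt (nat_lit 4)) (.lt (nat_lit 1))))))) (.mul (.lt (nat_lit 4)) (.mul (.lt (nat_lit 3)) (.mul (.lt (nat_lit 2)) (.mul (.lt (nat_lit 0)) (.mul (.lt (nat_lit 4)) (.lt (nat_lit 1))))))), .mul (.inv (.mul (.lt (nat_lit 4)) (.mul (.lt (nat_lit 0)) (.mul (.lt (nat_lit 3)) (.mul (.lt (nat_lit 2)) (.mul (.lt (nat_lit 0)) (.mul (.lt (nat_lit 4)) (.lt (nat_lit 1))))))))) (.mul (.lt (nat_lit 1)) (.mul (.lt (nat_lit 4)) (.mul (.lt (nat_lit 0)) (.mul (.lt (nat_lit 3)) (.mul (.lt (nat_lit 2)) (.mul (.lt (nat_lit 0)) (.mul (.lt (nat_lit 4)) (.lt (nat_lit 1))))))))), .mul (.inv (.mul (.lt (nat_lit 2)) (.mul (.lt (nat_lit 0)) (.lt (nat_lit 3))))) (.mul (.lt (nat_lit 0)) (.mul (.lt (nat_lit 2)) (.mul (.lt (nat_lit 0)) (.lt (nat_lit 3))))), .mul (.inv (.lt (nat_lit 1))) (.mul (.lt (nat_lit 3)) (.lt (nat_lit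 1)))]

/-- the orbit table of level 2 -/
noncomputable def tb2 : TT := .leaf (nat_lit 0x500000008000034040300000600003303030000050000310302000005000030020100000200002e010100000100002c020300000200002b01000000010000250000000000000022010200000100001f)
/-- level 2 -/
noncomputable def lv2 : Lvl where
  b := nat_lit 34
  n := nat_lit 10
  t := fun k => TT.fld tb2 (nat_lit 64) (nat_lit 255) (nat_lit 18446744073709551615) k
  next := [.mul (.inv (.lt (nat_lit 2))) (.mul (.lt (nat_lit 3)) (.lt (nat_lit 2))), .mul (.inv (.mul (.lt (nat_lit 0)) (.mul (.lt (nat_lit 3)) (.mul (.lt (nat_lit 2)) (.mul (.lt (nat_lit 1)) (.lt (nat_lit 0))))))) (.mul (.lt (nat_lit 3)) (.mul (.lt (nat_lit 0)) (.mul (.lt (nat_lit 3)) (.mul (.lt (nat_lit 2)) (.mul (.lt (nat_lit 1)) (.lt (nat_lit 0))))))), .mul (.inv (.lt (nat_lit 0))) (.mul (.lt (nat_lit 2)) (.lt (nat_lit 0)))]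

/-- the orbit table of level 3 -/
noncomputable def tb3 : TT := .leaf (nat_lit 0x2000000040000330102000003000030000000000000002c030000000100002b0202000000000025010100000300001f)
/-- level 3 -/
noncomputable def lv3 : Lvl where
  b := nat_lit 44
  n := nat_lit 6
  t := fun k => TT.fld tb3 (nat_lit 64) (nat_lit 255) (nat_lit 18446744073709551615) k
  next := [.mul (.inv (.mul (.lt (nat_lit 0)) (.mul (.lt (nat_lit 2)) (.lt (nat_lit 1))))) (.mul (.lt (nat_lit 2)) (.mul (.lt (nat_lit 0)) (.mul (.lt (nat_lit 2)) (.lt (nat_lit 1)))))]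

/-- the orbit table of level 4 -/
noncomputable def tb4 : TT := .leaf (nat_lit 0x330100000001000030)
/-- level 4 -/
noncomputable def lv4 : Lvl where
  b := nat_lit 51
  n := nat_lit 2
  t := fun k => TT.fld tb4 (nat_lit 64) (nat_lit 255) (nat_lit 18446744073709551615) k
  next := []

/-- the chain -/
noncomputable def ls : List Lvl := [lv0, lv1, lv2, lv3, lv4]

theorem fix0 : fixAll (ev0 Cfsg.Agent.Lib.Compute.TC.MWE7.cfg) 0 next0 = true := by decide +kernel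

theorem chainOK : chainChk Cfsg.Agent.Lib.Compute.TC.MWE7.cfg.N ls (evN (ev0 Cfsg.Agent.Lib.Compute.TC.MWE7.cfg) next0) = true := by decide +kernel

theorem prodEq : Cfsg.Agent.Lib.Compute.TC.MWE7.cfg.N * (ls.map (·.n)).prod = 2903040 := by decide +kernel

end Cfsg.Agent.Lib.Compute.TC.MWE7C
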